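import Groth.Agent.LogDRGeo45.Sections
import Groth.Agent.LogModGeo.Residue

/-!
# Sections of twists by regular equations over an arbitrary scheme
-/

set_option autoImplicit false

universe u

open CategoryTheory AlgebraicGeometry Opposite TopologicalSpace TensorProduct

noncomputable section

namespace Groth.Agent.LogQis32

open Groth.Agent.LogDRGeo45 (inclTwist_tmul exists_inclTwist_eq)

variable {X : Scheme.{u}}

/-- A regular function is regular on the sections of a locally free module. -/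
theorem isSMulRegular_sections {E : X.Modules} (hE : FlatMod.IsFinLocFree E) {U : X.Opens}
    (hU : IsAffineOpen U) {g : Γ(X, U)} (hg : IsRegular g) : IsSMulRegular Γ(E, U) g := by
  have := LocDual54.projective_sections hE hU
  exact Module.Flat.isSMulRegular_of_isRegular hg

/-- Restriction to the basic open of a regular function is injective on a locally free module. -/
theorem res_basicOpen_injective {E : X.Modules} (hE : FlatMod.IsFinLocFree E) {U : X.Opens}
    (hU : IsAffineOpen U) {g : Γ(X, U)} (hg : IsRegular g) :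
    Function.Injective (E.presheaf.map (homOfLE (X.basicOpen_le g)).op) := by
  refine (injective_iff_map_eq_zero (E.presheaf.map (homOfLE (X.basicOpen_le g)).op).hom).2 fun s hs => ?_
  obtain ⟨n, hn⟩ := QCoh.exists_pow_smul_eq_zero_of_isCompact (QCoh.isQCoh_of_isFinLocFree hE) hU.isCompact g s hs
  exact ((isSMulRegular_sections hE hU hg).pow n) (hn.trans (smul_zero _).symm)

/-- A regular function stays regular on a basic open. -/
theorem isRegular_res_basicOpen {U : X.Opens} (hU : IsAffineOpen U) {g : Γ(X, U)} (hg : IsRegular g)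
    (t : Γ(X, U)) : IsRegular (X.presheaf.map (homOfLE (X.basicOpen_le t)).op g) := by
  have := hU.isLocalization_basicOpen t
  have : Module.Flat Γ(X, U) Γ(X, X.basicOpen t) := IsLocalization.flat _ (Submonoid.powers t)
  have hs : IsSMulRegular Γ(X, X.basicOpen t) g := Module.Flat.isSMulRegular_of_isRegular hg
  have hl : IsLeftRegular (X.presheaf.map (homOfLE (X.basicOpen_le t)).op g) := fun a b hab => hs hab
  exact ⟨hl, hl.right_of_commute fun _ => Commute.all _ _⟩

theorem isQCoh_idealMod (I : X.IdealSheafData) : Coh.IsQCoh (ClSub.idealMod I) :=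
  QCoh.isQCoh_kernel QCoh.isQCoh_structureModule
    (QCoh.isQCoh_pushforward I.subschemeι QCoh.isQCoh_structureModule) _

variable (E : X.Modules) (I : X.IdealSheafData)

theorem inclTwist_mem (hE : Coh.IsQCoh E) (U : X.affineOpens) {G : Γ(X, U.1)}
    (hG : I.ideal U = Ideal.span {G}) (z : Γ(CohB1.tensorMod E (ClSub.idealMod I), U.1)) :
    ∃ (e : Γ(E, U.1)) (k : Γ(ClSub.idealMod I, U.1)), OmegaSh.idealSect I U.1 k = G ∧
      z = SecTwist.tmul E (ClSub.idealMod I) U.1 e k := by
  obtain ⟨w, rfl⟩ := (QCoh.bijective_tmLin hE (isQCoh_idealMod I) U.2).2 z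
  obtain ⟨k₀, hk₀⟩ := OmegaLib.exists_of_mem I U G (hG ▸ Ideal.mem_span_singleton_self G)
  suffices h : ∃ e : Γ(E, U.1), w = e ⊗ₜ[Γ(X, U.1)] k₀ by
    obtain ⟨e, rfl⟩ := h
    exact ⟨e, k₀, hk₀, QCoh.tmLin_tmul E _ e k₀⟩
  induction w using TensorProduct.induction_on with
  | zero => exact ⟨0, (TensorProduct.zero_tmul _ _).symm⟩
  | add a b ha hb =>
    obtain ⟨e, rfl⟩ := ha
    obtain ⟨e', rfl⟩ := hb
    exact ⟨e + e', (TensorProduct.add_tmul _ _ _).symm⟩
  | tmul e k =>
    have hk : OmegaSh.idealSect I U.1 k ∈ Ideal.span {G} := hG ▸ OmegaLib.idealSect_mem I U k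
    obtain ⟨b, hb⟩ := Ideal.mem_span_singleton'.1 hk
    refine ⟨b • e, ?_⟩
    have : k = b • k₀ := OmegaLib.idealSect_injective I U.1 (by rw [OmegaLib.idealSect_smul, hk₀, hb])
    rw [this, TensorProduct.smul_tmul]

theorem inclTwist_injective (hE : FlatMod.IsFinLocFree E) (U : X.affineOpens) {G : Γ(X, U.1)}
    (hG : I.ideal U = Ideal.span {G}) (hreg : IsRegular G) :
    Function.Injective ((LogNCD.inclTwist E I).app U.1) := by
  refine (injective_iff_map_eq_zero ((LogNCD.inclTwist E I).app U.1).hom).2 fun z hz => ?_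
  obtain ⟨e, k, hk, rfl⟩ := inclTwist_mem E I (QCoh.isQCoh_of_isFinLocFree hE) U hG z
  rw [inclTwist_tmul, hk] at hz
  obtain rfl : e = 0 := isSMulRegular_sections hE U.2 hreg (hz.trans (smul_zero G).symm)
  exact (congrArg (QCoh.tmLin E (ClSub.idealMod I) U.1) (TensorProduct.zero_tmul _ k)).trans (map_zero _)

theorem exists_smul_of_qSect_eq_zero (hE : Coh.IsQCoh E) (U : X.affineOpens)
    {g : Γ(X, U.1)} (hg : I.ideal U = Ideal.span {g}) {e : Γ(E, U.1)} (h : LogModGeo.qSect E I U.1 e = 0) :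
    ∃ e', g • e' = e := by
  have h' := LogModGeo.qSect_eq_zero I hE U h
  rw [hg, Submodule.ideal_span_singleton_smul] at h'
  obtain ⟨e', -, he'⟩ := (Submodule.mem_smul_pointwise_iff_exists e g ⊤).1 h'
  exact ⟨e', he'⟩

theorem qSect_smul_eq_zero (U : X.affineOpens) {g : Γ(X, U.1)} (hg : g ∈ I.ideal U) (e : Γ(E, U.1)) :
    LogModGeo.qSect E I U.1 (g • e) = 0 := by
  show QCoh.tmLin E (ClSub.quotMod I) U.1 ((g • e) ⊗ₜ[Γ(X, U.1)] LogModGeo.one I U.1) = 0
  rw [TensorProduct.smul_tmul, (LogModGeo.smul_one_eq_zero_iff I U g).2 hg, TensorProduct.tmul_zero, map_zero]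

/-- A map lifting an automorphism of the restriction to a principal divisor is bijective modulo the equation. -/
theorem bij_of_key {E : X.Modules} (hE : Coh.IsQCoh E) (I : X.IdealSheafData)
    (U : X.affineOpens) {x : Γ(X, U.1)} (hI : I.ideal U = Ideal.span {x}) (θ : Γ(E, U.1) → Γ(E, U.1))
    (T : CohB1.tensorMod E (ClSub.quotMod I) ⟶ CohB1.tensorMod E (ClSub.quotMod I)) [IsIso T]
    (key : ∀ e, LogModGeo.qSect E I U.1 (θ e) = T.app U.1 (LogModGeo.qSect E I U.1 e)) :
    (∀ e, ∃ e' w, x • w = θ e' - e) ∧ ∀ e, (∃ w, x • w = θ e) → ∃ v, x • v = e := by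
  have hT : Function.Bijective (T.app U.1) := ConcreteCategory.bijective_of_isIso (T.app U.1)
  refine ⟨fun e => ?_, fun e ⟨w, he⟩ => exists_smul_of_qSect_eq_zero E I hE U hI (hT.1 ?_)⟩
  · obtain ⟨y, hy⟩ := hT.2 (LogModGeo.qSect E I U.1 e)
    obtain ⟨e', rfl⟩ := LogModGeo.qSect_surjective I hE U y
    exact ⟨e', exists_smul_of_qSect_eq_zero E I hE U hI (by rw [map_sub, key, hy, sub_self])⟩
  · rw [← key, ← he, qSect_smul_eq_zero E I U (hI ▸ Ideal.mem_span_singleton_self _), map_zero]

end Groth.Agent.LogQis32
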