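import Groth.Agent.LogDRGeo45.Frame
import Groth.Agent.LogDRGeo45.Image
import Groth.Agent.LogQis32.Sect
import Groth.Agent.LogModGeo.Free

/-!
# Logarithmic frames over an arbitrary base
-/

set_option autoImplicit false

universe u

open CategoryTheory AlgebraicGeometry Opposite TopologicalSpace

noncomputable section

namespace Groth.Agent.LogQis32

open Groth.Agent.LogDRGeo45 (dlog dlog_mul dlog_one dlog_res res_dlog)
open Groth.Agent.LogModGeo (rs rf)

variable {X S : Scheme.{u}} {f : X ⟶ S} {Ω' : X.Modules} {d : OmegaSh.Der f Ω'} {r : ℕ}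
  {D : Fin r → X.IdealSheafData} (Λ : LogNCD.LogMod d D)

/-- A logarithmic frame on an affine open over any base. -/
structure RFrame (U : X.affineOpens) where
  /-- the number of coordinates -/
  n : ℕ
  /-- the coordinates -/
  v : Fin n → Γ(X, U.1)
  /-- the basis of logarithmic forms -/
  bas : Module.Basis (Fin n) Γ(X, U.1) Γ(Λ.L, U.1)
  /-- the coordinate of a component -/
  comp : Fin r → Option (Fin n)
  comp_inj : ∀ i j l, comp i = some l → comp j = some l → i = j
  regular : ∀ l, IsRegular (v l)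
  gens : LogModGeo.Gens D U fun i => (comp i).elim 1 v
  δ_pole : ∀ i l, comp i = some l → dlog Λ U.1 (v l) = v l • bas l
  δ_other : ∀ l, (∀ i, comp i ≠ some l) → dlog Λ U.1 (v l) = bas l
  res_bas : ∀ i l, (Λ.res i).app U.1 (bas l) = if comp i = some l then LogModGeo.one (D i) U.1 else 0
  exists_res : ∀ t : Γ(X, U.1),
    ∃ bas' : Module.Basis (Fin n) Γ(X, X.basicOpen t) Γ(Λ.L, X.basicOpen t),
      ∀ l, bas' l = rs Λ.L (X.basicOpen_le t) (bas l)

variable {Λ}

/-- The equation of a component in a frame. -/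
def RFrame.eqn {U : X.affineOpens} (F : RFrame Λ U) (i : Fin r) : Γ(X, U.1) := (F.comp i).elim 1 F.v

theorem RFrame.ideal_eq {U : X.affineOpens} (F : RFrame Λ U) (i : Fin r) :
    (D i).ideal U = Ideal.span {F.eqn i} := F.gens i

theorem RFrame.ideal_some {U : X.affineOpens} (F : RFrame Λ U) {i : Fin r} {l : Fin F.n}
    (h : F.comp i = some l) : (D i).ideal U = Ideal.span {F.v l} := by
  rw [F.ideal_eq i, RFrame.eqn, h, Option.elim_some]

theorem RFrame.regular_eqn {U : X.affineOpens} (F : RFrame Λ U) (i : Fin r) : IsRegular (F.eqn i) := by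
  rw [RFrame.eqn]
  match F.comp i with
  | none => exact isRegular_one
  | some l => exact F.regular l

open LogModGeo in
/-- A chart of the divisor gives a frame. -/
theorem exists_rframe (hd : OmegaSh.IsUniversal d) {U : X.affineOpens} (C : Chart (d := d) (D := D) U) :
    Nonempty (RFrame Λ U) := by
  classical
  obtain ⟨b, hb⟩ := C.exists_logBasis Λ hd
  obtain ⟨S₀⟩ := exists_dlogSystem Λ C.gens_eqn
  have := Module.Free.of_basis b
  have hreg : ∀ l, IsSMulRegular Γ(Λ.L, U.1) (C.v l) := fun l => Module.Flat.isSMulRegular_of_isRegular (C.regular l)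
  have hpole : ∀ i l, C.comp i = some l → b l = S₀.dl i := fun i l h => hreg l <| by
    have h1 := hb l
    rw [if_pos ⟨i, h⟩] at h1
    have h2 := S₀.smul_dl i
    rw [Chart.eqn, h, Option.elim_some] at h2
    exact h1.trans h2.symm
  refine ⟨⟨C.n, C.v, b, C.comp, C.comp_inj, C.regular, C.gens, fun i l h => ?_, fun l h => ?_, fun i l => ?_,
    fun t => ?_⟩⟩
  · show Λ.ι.app U.1 (d.app U.1 (C.v l)) = _
    rw [← hb l, if_pos ⟨i, h⟩]
  · show Λ.ι.app U.1 (d.app U.1 (C.v l)) = _
    rw [← hb l, if_neg fun ⟨i, hi⟩ => h i hi, one_smul]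
  · by_cases h : ∃ j, C.comp j = some l
    · obtain ⟨j, hj⟩ := h
      rw [hpole j l hj]
      by_cases hij : j = i
      · subst hij
        rw [if_pos hj]
        exact S₀.res_self j
      · rw [if_neg fun hi => hij (C.comp_inj j i l hj hi)]
        exact S₀.res_ne j i hij
    · rw [if_neg fun hi => h ⟨i, hi⟩]
      have h1 := hb l
      rw [if_neg h, one_smul] at h1
      rw [h1]
      exact res_ι_app i U.1 _
  · let V : X.affineOpens := ⟨X.basicOpen t, U.2.basicOpen t⟩
    have hVU : V.1 ≤ U.1 := X.basicOpen_le t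
    obtain ⟨bV, hbV⟩ := C.basis_res V hVU
    have hg : Gens D V fun i => (C.comp i).elim 1 fun l => rf hVU (C.v l) := by
      have h1 := C.gens.res V hVU
      intro i
      rw [h1 i]
      refine congrArg (fun b => Ideal.span {b}) ?_
      show rf hVU ((C.comp i).elim 1 C.v) = (C.comp i).elim 1 fun l => rf hVU (C.v l)
      match C.comp i with
      | none => exact map_one (rf hVU)
      | some l => rfl
    let C' : Chart (d := d) (D := D) V :=
      { n := C.n, v := fun l => rf hVU (C.v l), comp := C.comp, comp_inj := C.comp_inj,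
        regular := fun l => isRegular_res_basicOpen U.2 (C.regular l) t, gens := hg, basis := bV,
        basis_apply := fun l => by rw [hbV, C.basis_apply, ← d_res]
        basis_res := fun W h => by
          obtain ⟨bW, hbW⟩ := C.basis_res W (h.trans hVU)
          exact ⟨bW, fun l => by rw [hbW, hbV, rs_rs]⟩ }
    obtain ⟨b', hb'⟩ := C'.exists_logBasis Λ hd
    refine ⟨b', fun l => ?_⟩
    have := Module.Free.of_basis b'
    have h1 := congrArg (rs Λ.L hVU) (hb l)
    rw [rs_smul, ← app_rs, ← d_res, apply_ite (rf hVU), map_one] at h1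
    have hr : IsSMulRegular Γ(Λ.L, V.1) (if ∃ i, C'.comp i = some l then C'.v l else 1) := by
      split_ifs
      · exact Module.Flat.isSMulRegular_of_isRegular (C'.regular l)
      · exact IsSMulRegular.one _
    exact hr ((hb' l).trans h1.symm)

variable (Λ) in
/-- Affine opens off the divisor with exact forms generating, or carrying a frame. -/
def IsGood (U : X.affineOpens) : Prop :=
  ((∀ i, (D i).ideal U = ⊤) ∧ Submodule.span Γ(X, U.1) (Set.range (dlog Λ U.1)) = ⊤) ∨ Nonempty (RFrame Λ U)

theorem exists_good (hd : OmegaSh.IsUniversal d) (hD : LogNCD.IsNCD D f) {O : X.Opens} {x : X} (hx : x ∈ O) :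
    ∃ U : X.affineOpens, x ∈ U.1 ∧ U.1 ≤ O ∧ IsGood Λ U := by
  by_cases h : Nonempty (LogNCD.Through D x)
  · obtain ⟨U, hxU, hle, ⟨C⟩⟩ := LogModGeo.exists_chart hd hD h hx
    exact ⟨U, hxU, hle, Or.inr (exists_rframe hd C)⟩
  · obtain ⟨T, hT, hxT, -⟩ := Opens.isBasis_iff_nbhd.mp S.isBasis_affineOpens (Opens.mem_top (f x))
    have hxA : x ∈ LogModGeo.away D := (LogModGeo.mem_away D).2 fun i hi => h ⟨⟨i, hi⟩⟩
    obtain ⟨U, hxU, hle⟩ := LogModGeo.exists_affine_nhd (W := O ⊓ LogModGeo.away D ⊓ f ⁻¹ᵁ T) ⟨⟨hx, hxA⟩, hxT⟩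
    have htop : ∀ i, (D i).ideal U = ⊤ := fun i =>
      LogModGeo.ideal_eq_top_of_le_away (hle.trans (inf_le_left.trans inf_le_right)) i
    refine ⟨U, hxU, hle.trans (inf_le_left.trans inf_le_left), Or.inl ⟨htop, ?_⟩⟩
    have hg : LogModGeo.Gens D U fun _ => 1 := fun i => by rw [htop i, Ideal.span_singleton_one]
    obtain ⟨S₀⟩ := LogModGeo.exists_dlogSystem Λ hg
    have he : U.1 ≤ f ⁻¹ᵁ T := hle.trans inf_le_right
    let _ := (f.appLE T U.1 he).hom.toAlgebra
    obtain ⟨E, hE⟩ := LogModGeo.exists_equiv hd U.2 hT he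
    rw [eq_top_iff]
    intro y _
    obtain ⟨η, a, rfl⟩ := S₀.decomp y
    refine add_mem ?_ (sum_mem fun i _ => Submodule.smul_mem _ _ ?_)
    · have hη : E η ∈ Submodule.span Γ(X, U.1) (Set.range (KaehlerDifferential.D Γ(S, T) Γ(X, U.1))) := by
        rw [KaehlerDifferential.span_range_derivation]; trivial
      rw [← E.symm_apply_apply η]
      generalize E η = z at hη
      induction hη using Submodule.span_induction with
      | mem z hz =>
        obtain ⟨c, rfl⟩ := hz
        rw [← hE, E.symm_apply_apply]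
        exact Submodule.subset_span ⟨c, rfl⟩
      | zero => rw [map_zero, map_zero]; exact zero_mem _
      | add a b _ _ ha hb => rw [map_add, map_add]; exact add_mem ha hb
      | smul c z _ hz => rw [map_smul, Scheme.Modules.Hom.app_smul]; exact Submodule.smul_mem _ _ hz
    · have h0 := S₀.smul_dl i
      rw [one_smul] at h0
      rw [h0]
      exact Submodule.subset_span ⟨1, rfl⟩

/-- The coordinates with poles. -/
def RFrame.poles {U : X.affineOpens} (F : RFrame Λ U) : Finset (Fin F.n) := by
  classical exact Finset.univ.filter fun l => ∃ i, F.comp i = some l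

theorem RFrame.mem_poles {U : X.affineOpens} (F : RFrame Λ U) (l : Fin F.n) :
    l ∈ F.poles ↔ ∃ i, F.comp i = some l := by
  simp [RFrame.poles]

variable (μ : Fin r → ℕ)

/-- The multiplicities of the coordinates. -/
def RFrame.mult {U : X.affineOpens} (F : RFrame Λ U) (l : Fin F.n) : ℕ := ∑ i, if F.comp i = some l then μ i else 0

theorem RFrame.mult_eq {U : X.affineOpens} (F : RFrame Λ U) {i : Fin r} {l : Fin F.n} (h : F.comp i = some l) :
    F.mult μ l = μ i := by
  rw [RFrame.mult, Finset.sum_eq_single i (fun b _ hb => if_neg fun hb' => hb (F.comp_inj b i l hb' h))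
    (fun h => absurd (Finset.mem_univ i) h), if_pos h]

theorem RFrame.ideal_twist {U : X.affineOpens} (F : RFrame Λ U) :
    (∏ i, D i ^ μ i).ideal U = Ideal.span {∏ l ∈ F.poles, F.v l ^ F.mult μ l} := by
  classical
  rw [LogDRGeo45.ideal_twist, Finset.prod_congr rfl fun i _ => by rw [F.ideal_eq i, Ideal.span_singleton_pow],
    Ideal.prod_span_singleton]
  congr 2
  simp only [RFrame.mult, ← Finset.prod_pow_eq_pow_sum]
  rw [Finset.prod_comm]
  refine Finset.prod_congr rfl fun i _ => ?_
  rw [RFrame.eqn]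
  match h : F.comp i with
  | none =>
    rw [Option.elim_none, one_pow, eq_comm]
    exact Finset.prod_eq_one fun l _ => by simp
  | some l₀ =>
    rw [Option.elim_some, Finset.prod_eq_single l₀ (fun l _ hl => by
      rw [if_neg (fun e => hl (Option.some.inj e).symm), pow_zero])
      (fun hn => absurd (F.mem_poles l₀ |>.2 ⟨i, h⟩) hn), if_pos rfl]

theorem RFrame.regular_twist {U : X.affineOpens} (F : RFrame Λ U) :
    IsRegular (∏ l ∈ F.poles, F.v l ^ F.mult μ l) :=
  IsRegular.prod fun l _ => (F.regular l).pow _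

end Groth.Agent.LogQis32
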