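import Groth.Agent.LogDRGeo45.Local
import Groth.Agent.LogQis32.Frame

/-!
# The coordinate description of a logarithmic de Rham complex on a frame, over any base
-/

set_option autoImplicit false

universe u

open CategoryTheory AlgebraicGeometry Opposite TopologicalSpace TensorProduct
open Groth.Agent.LogDR45

noncomputable section

namespace Groth.Agent.LogQis32

open Groth.Agent.LogDRGeo45 (dlog dlog_mul dlog_one dlog_res res_dlog dSec dSec_mul nabF dF resF isRes isPFRule
  resF_dF rs_dSec resF_nabF rs dF_dF)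

variable {X S : Scheme.{u}} {f : X ⟶ S} {Ω' : X.Modules} {d : OmegaSh.Der f Ω'} {r : ℕ}
  {D : Fin r → X.IdealSheafData} {Λ : LogNCD.LogMod d D}
  {E : X.Modules} {nabla : Coh.toAb E ⟶ Coh.toAb (CohB1.tensorMod E Λ.L)}

/-- The Leibniz rule holds where exact forms generate. -/
theorem isLeib_span (K : ConnSh.Cx (LogNCD.der Λ) E nabla) (V : X.affineOpens)
    (h : Submodule.span Γ(X, V.1) (Set.range (dlog Λ V.1)) = ⊤) :
    IsLeib (dSec (LogNCD.der Λ) V.1) (fun p => dF K p V) :=
  isLeib_of_units (bas := fun b : Γ(X, V.1) => dlog Λ V.1 b) (c := fun _ => 1) (isPFRule K V)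
    (dSec_mul V.1) h (fun _ => isUnit_one) fun b => ⟨b, (one_smul _ _).trans rfl⟩

variable {U : X.affineOpens} (F : RFrame Λ U)

/-- The product of the equations. -/
def RFrame.total : Γ(X, U.1) := ∏ i, F.eqn i

/-- The complement of the divisor in a frame. -/
def RFrame.away : X.affineOpens := ⟨X.basicOpen F.total, U.2.basicOpen F.total⟩

theorem RFrame.away_le : F.away.1 ≤ U.1 := X.basicOpen_le _

theorem RFrame.regular_total : IsRegular F.total := IsRegular.prod fun i _ => F.regular_eqn i

theorem RFrame.isUnit_eqn (i : Fin r) :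
    IsUnit (X.presheaf.map (homOfLE F.away_le).op (F.eqn i)) := by
  classical
  have h : IsUnit (X.presheaf.map (homOfLE F.away_le).op F.total) :=
    RingedSpace.isUnit_res_basicOpen _ F.total
  rw [RFrame.total, map_prod] at h
  exact (IsUnit.prod_iff.1 h) i (Finset.mem_univ i)

theorem RFrame.isUnit_v {i : Fin r} {l : Fin F.n} (h : F.comp i = some l) :
    IsUnit (X.presheaf.map (homOfLE F.away_le).op (F.v l)) := by
  have h1 := F.isUnit_eqn i
  rwa [RFrame.eqn, h, Option.elim_some] at h1

theorem RFrame.ideal_away (i : Fin r) : (D i).ideal F.away = ⊤ :=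
  Ideal.eq_top_of_isUnit_mem _
    (LogDRGeo45.res_mem_ideal (D i) F.away_le (by rw [F.ideal_eq i]; exact Ideal.mem_span_singleton_self _))
    (F.isUnit_eqn i)

theorem RFrame.exists_away_basis :
    ∃ bas' : Module.Basis (Fin F.n) Γ(X, F.away.1) Γ(Λ.L, F.away.1),
      ∀ l, bas' l = rs Λ.L F.away_le (F.bas l) := F.exists_res F.total

/-- On the complement of the divisor every basis form is a multiple of an exact one. -/
theorem RFrame.exists_unit (l : Fin F.n) : ∃ c : Γ(X, F.away.1), IsUnit c ∧
    c • rs Λ.L F.away_le (F.bas l) = dlog Λ F.away.1 (X.presheaf.map (homOfLE F.away_le).op (F.v l)) := by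
  classical
  rw [← dlog_res Λ F.away_le]
  by_cases h : ∃ i, F.comp i = some l
  · obtain ⟨i, hi⟩ := h
    exact ⟨_, F.isUnit_v hi, by rw [F.δ_pole i l hi, Scheme.Modules.map_smul]⟩
  · exact ⟨1, isUnit_one, by rw [F.δ_other l fun i hi => h ⟨i, hi⟩, one_smul]⟩

theorem RFrame.span_away : Submodule.span Γ(X, F.away.1) (Set.range (dlog Λ F.away.1)) = ⊤ := by
  obtain ⟨bas', hbas'⟩ := F.exists_away_basis
  rw [eq_top_iff, ← bas'.span_eq, Submodule.span_le]
  rintro _ ⟨l, rfl⟩
  obtain ⟨c, hc, he⟩ := F.exists_unit l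
  rw [hbas' l]
  obtain ⟨u, rfl⟩ := hc
  have h1 : rs Λ.L F.away_le (F.bas l) =
      (↑u⁻¹ : Γ(X, F.away.1)) • dlog Λ F.away.1 (X.presheaf.map (homOfLE F.away_le).op (F.v l)) := by
    rw [← he, ← mul_smul, Units.inv_mul, one_smul]
  rw [h1]
  exact Submodule.smul_mem _ _ (Submodule.subset_span ⟨_, rfl⟩)

variable (hE : FlatMod.IsFinLocFree E) (K : ConnSh.Cx (LogNCD.der Λ) E nabla)

include hE in
theorem RFrame.resF_injective (p : ℕ) : Function.Injective (resF K F.away_le p) := by
  obtain ⟨bas', hbas'⟩ := F.exists_away_basis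
  exact (isRes K F.away_le).injective F.bas bas' hbas' (res_basicOpen_injective hE U.2 F.regular_total)
    (map_zero _) p

include F hE in
theorem RFrame.isLeib : IsLeib (dSec (LogNCD.der Λ) U.1) (fun p => dF K p U) :=
  (isRes K F.away_le).isLeib (F.resF_injective hE K) (fun _ z => resF_dF K F.away_le z)
    (rs_dSec F.away_le) (isLeib_span K F.away F.span_away)

include hE in
theorem RFrame.isGenRule : IsGenRule (nabF K U) (fun p => dF K p U) F.bas := by
  classical
  refine (isRes K F.away_le).isGenRule (F.resF_injective hE K) (fun _ z => resF_dF K F.away_le z)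
    (nab' := nabF K F.away) (fun e => resF_nabF K F.away_le e) ?_
  obtain ⟨bas', hbas'⟩ := F.exists_away_basis
  let c : Fin F.n → Γ(X, F.away.1) := fun l =>
    if ∃ i, F.comp i = some l then X.presheaf.map (homOfLE F.away_le).op (F.v l) else 1
  have hspan : Submodule.span Γ(X, F.away.1) (Set.range (rs Λ.L F.away_le ∘ F.bas)) = ⊤ := by
    rw [show rs Λ.L F.away_le ∘ F.bas = ⇑bas' from funext fun l => (hbas' l).symm]
    exact bas'.span_eq
  refine isGenRule_of_units (δ := dSec (LogNCD.der Λ) F.away.1) (c := c) (isPFRule K F.away) (dSec_mul _) hspan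
    (fun l => ?_) (fun l => ?_) (fun l => ?_)
  · simp only [c]
    split_ifs with h
    · obtain ⟨i, hi⟩ := h
      exact F.isUnit_v hi
    · exact isUnit_one
  · refine ⟨X.presheaf.map (homOfLE F.away_le).op (F.v l), ?_⟩
    rw [← rs_dSec F.away_le]
    simp only [c]
    split_ifs with h
    · obtain ⟨i, hi⟩ := h
      rw [show dSec (LogNCD.der Λ) U.1 (F.v l) = F.v l • F.bas l from F.δ_pole i l hi]
      exact (Scheme.Modules.map_smul _ _ _ _).symm
    · rw [show dSec (LogNCD.der Λ) U.1 (F.v l) = F.bas l from F.δ_other l fun i hi => h ⟨i, hi⟩, one_smul]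
      rfl
  · simp only [c]
    split_ifs with h
    · obtain ⟨i, hi⟩ := h
      refine ⟨X.presheaf.map (homOfLE F.away_le).op (F.v l), ?_⟩
      rw [← rs_dSec F.away_le, show dSec (LogNCD.der Λ) U.1 (F.v l) = F.v l • F.bas l from F.δ_pole i l hi]
      exact Scheme.Modules.map_smul _ _ _ _
    · exact ⟨0, by rw [zero_smul]; exact dlog_one Λ _⟩

/-- The coordinate description of the complex on a frame. -/
def RFrame.chart : Chart Γ(X, U.1) Γ(Λ.L, U.1) Γ(E, U.1) (Fin F.n) where
  δ := dSec (LogNCD.der Λ) U.1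
  bas := F.bas
  J := F.poles
  x := F.v
  nab := nabF K U
  d p := dF K p U
  δ_mul := dSec_mul U.1
  δ_x l hl := by
    obtain ⟨i, hi⟩ := (F.mem_poles l).1 hl
    exact F.δ_pole i l hi
  regular l _ := isSMulRegular_sections hE U.2 (F.regular l)
  res_δ l hl g := by
    obtain ⟨i, hi⟩ := (F.mem_poles l).1 hl
    rw [← Ideal.mem_span_singleton, ← F.ideal_some hi, ← LogModGeo.smul_one_eq_zero_iff]
    have h := res_dlog Λ i U.1 g
    rw [← F.bas.sum_repr (dlog Λ U.1 g), map_sum, Finset.sum_eq_single l] at h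
    · rw [Scheme.Modules.Hom.app_smul, F.res_bas, if_pos hi] at h
      exact h
    · intro m _ hm
      rw [Scheme.Modules.Hom.app_smul, F.res_bas, if_neg, smul_zero]
      rw [hi]
      exact fun e => hm (Option.some.inj e).symm
    · exact fun h => absurd (Finset.mem_univ l) h
  d_d p z := dF_dF K p U z
  leib := F.isLeib hE K
  gen := F.isGenRule hE K

end Groth.Agent.LogQis32
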