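import Groth.Agent.LogDRGeo45.CxMap
import Groth.Agent.LogDRGeo45.QisCrit
import Groth.Agent.LogDR45.Mult
import Groth.Agent.LogQis32.Local
import Mathlib.RingTheory.Flat.Basic

/-!
# A twisted logarithmic de Rham complex is quasi-isomorphic to the original one, over any base
-/

set_option autoImplicit false

universe u

open CategoryTheory CategoryTheory.Limits AlgebraicGeometry Opposite TopologicalSpace TensorProduct
open Groth.Agent.LogDR45

noncomputable section

namespace Groth.Agent.LogQis32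

open Groth.Agent.LogDRGeo45 (Fm mapF mapF_tmul secLin secLin_apply toF ofF toF_ofF ofF_toF dF nabF
  inclTwist_tmul exists_inclTwist_eq)

variable {X S : Scheme.{u}} {f : X ⟶ S} {Ω' : X.Modules} {d : OmegaSh.Der f Ω'} {r : ℕ}
  {D : Fin r → X.IdealSheafData} {Λ : LogNCD.LogMod d D} {E : X.Modules}
  {nabla : Coh.toAb E ⟶ Coh.toAb (CohB1.tensorMod E Λ.L)}
  (K : ConnSh.Cx (LogNCD.der Λ) E nabla)

/-- The residue shifted by `m`, on the coordinates of a frame. -/
def thetaR {U : X.affineOpens} (F : RFrame Λ U) (l : Fin F.n) (m : ℕ) (e : Γ(E, U.1)) : Γ(E, U.1) :=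
  evalR (F.bas.coord l) (nabF K U e) + m • e

/-- The shifted residues are bijective modulo the equations. -/
def ThetaBij (μ : Fin r → ℕ) : Prop :=
  ∀ (U : X.affineOpens) (F : RFrame Λ U) (i : Fin r) (l : Fin F.n), F.comp i = some l →
    ∀ m < μ i, (∀ e, ∃ e', thetaR K F l m e' - e ∈ Chart.mult (F.v l) Γ(E, U.1)) ∧
      ∀ e, thetaR K F l m e ∈ Chart.mult (F.v l) Γ(E, U.1) → e ∈ Chart.mult (F.v l) Γ(E, U.1)

variable (hE : FlatMod.IsFinLocFree E)

include hE in
/-- The forms coming from the twist are the multiples of the equation. -/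
theorem mem_range_mapF_iff (I : X.IdealSheafData) {U : X.affineOpens} {G : Γ(X, U.1)}
    (hG : I.ideal U = Ideal.span {G}) (p : ℕ) (z : Fm Ω' E p U.1) :
    z ∈ Set.range (mapF (Ω' := Ω') (LogNCD.inclTwist E I) p U.1) ↔ z ∈ Chart.mult G (Fm Ω' E p U.1) := by
  refine range_map_eq_mult (secLin (LogNCD.inclTwist E I) U.1) G (fun e' => ?_) (fun e => ?_) z
  · obtain ⟨e, k, hk, he'⟩ := inclTwist_mem E I (QCoh.isQCoh_of_isFinLocFree hE) U hG e'
    refine ⟨e, ?_⟩
    rw [secLin_apply, he', ← hk]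
    exact inclTwist_tmul E I U.1 e k
  · exact exists_inclTwist_eq E I U (hG ▸ Ideal.mem_span_singleton_self G) e

variable (μ : Fin r → ℕ)

local notation "incl" => LogNCD.inclTwist E (∏ i, D i ^ μ i)

include hE in
theorem mapF_injective {U : X.affineOpens} (hU : IsGood Λ U) (p : ℕ) :
    Function.Injective (mapF (Ω' := Λ.L) incl p U.1) := by
  rcases hU with ⟨hU, -⟩ | ⟨⟨F⟩⟩
  · have hG := LogDRGeo45.ideal_twist_off D μ U hU
    refine (map_injective_of_bijective (secLin incl U.1) ⟨inclTwist_injective E _ hE U hG isRegular_one,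
      fun e => ?_⟩).1
    obtain ⟨z, hz⟩ := exists_inclTwist_eq E _ U (hG ▸ Ideal.mem_span_singleton_self (1 : Γ(X, U.1))) e
    exact ⟨z, hz.trans (one_smul _ e)⟩
  · have : Module.Free Γ(X, U.1) ↥(⋀[Γ(X, U.1)]^p Γ(Λ.L, U.1)) := Module.Free.of_basis (F.bas.exteriorPower p)
    exact Module.Flat.rTensor_preserves_injective_linearMap (secLin incl U.1)
      (inclTwist_injective E _ hE U (F.ideal_twist μ) (F.regular_twist μ))

include hE in
/-- The lifting on sections. -/
theorem lifts (hθ : ThetaBij K μ) {U : X.affineOpens} (hU : IsGood Λ U) :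
    (∀ v : Fm Λ.L E 0 U.1, dF K 0 U v ∈ Set.range (mapF incl 1 U.1) → v ∈ Set.range (mapF incl 0 U.1)) ∧
    ∀ (p : ℕ) (v : Fm Λ.L E (p + 1) U.1), dF K (p + 1) U v ∈ Set.range (mapF incl (p + 2) U.1) →
      ∃ w, v - dF K p U w ∈ Set.range (mapF incl (p + 1) U.1) := by
  rcases hU with ⟨hU, -⟩ | ⟨⟨F⟩⟩
  · have hG := LogDRGeo45.ideal_twist_off D μ U hU
    have htop : ∀ (p : ℕ) (z : Fm Λ.L E p U.1), z ∈ Set.range (mapF incl p U.1) := fun p z =>
      (mem_range_mapF_iff hE _ hG p z).2 ⟨z, one_smul _ z⟩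
    exact ⟨fun v _ => htop 0 v, fun p v _ => ⟨0, htop (p + 1) _⟩⟩
  · have hG := F.ideal_twist μ
    simp only [mem_range_mapF_iff hE _ hG]
    let C := F.chart hE K
    have hC : ∀ j ∈ C.J, ∀ ν : Fin F.n → ℕ, ν j < F.mult μ j →
        (∀ e, ∃ e', C.theta ν j e' - e ∈ Chart.mult (C.x j) Γ(E, U.1)) ∧
          ∀ e, C.theta ν j e ∈ Chart.mult (C.x j) Γ(E, U.1) → e ∈ Chart.mult (C.x j) Γ(E, U.1) := by
      intro j hj ν hν
      obtain ⟨i, hi⟩ := (F.mem_poles j).1 hj
      have heq : ∀ e, C.theta ν j e = thetaR K F j (ν j) e := fun e => C.theta_eq ν hj e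
      rw [F.mult_eq μ hi] at hν
      simp only [heq]
      exact hθ U F i j hi (ν j) hν
    exact C.exists_primitive (F.mult μ) (fun j hj ν hν => (hC j hj ν hν).1) fun j hj ν hν => (hC j hj ν hν).2

/-- The binder form of a map of twisted terms is the tensor of the inclusion. -/
theorem loc_app_eq_mapF (I : X.IdealSheafData) (hE : Coh.IsQCoh E)
    {nabla' : Coh.toAb (CohB1.tensorMod E (ClSub.idealMod I)) ⟶
      Coh.toAb (CohB1.tensorMod (CohB1.tensorMod E (ClSub.idealMod I)) Λ.L)}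
    (K' : ConnSh.Cx (LogNCD.der Λ) (CohB1.tensorMod E (ClSub.idealMod I)) nabla')
    (p : ℕ) (ψ : K'.term p ⟶ K.term p) (U : X.affineOpens)
    (hψ : ∀ (e : Γ(E, U.1)) (g : (ClSub.idealMod I).val.obj (op U.1)) (ω : Fin p → Γ(Λ.L, U.1)),
      ψ.app U.1 ((K'.loc p U).symm
        (SecTwist.tmul E (ClSub.idealMod I) U.1 e g ⊗ₜ exteriorPower.ιMulti _ p ω)) =
      (K.loc p U).symm ((OmegaSh.idealSect I U.1 g • e) ⊗ₜ exteriorPower.ιMulti _ p ω))
    (z : Fm Λ.L (CohB1.tensorMod E (ClSub.idealMod I)) p U.1) :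
    K.loc p U (ψ.app U.1 ((K'.loc p U).symm z)) = mapF (LogNCD.inclTwist E I) p U.1 z := by
  induction z using frm_induction with
  | hgen e' ω =>
    obtain ⟨w, rfl⟩ := (QCoh.bijective_tmLin hE (isQCoh_idealMod I) U.2).2 e'
    induction w using TensorProduct.induction_on with
    | zero =>
      rw [map_zero]
      erw [TensorProduct.zero_tmul]
      simp only [map_zero]
    | add a b ha hb =>
      rw [map_add]
      erw [TensorProduct.add_tmul]
      simp only [map_add]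
      exact congrArg₂ (· + ·) ha hb
    | tmul e g =>
      refine (congrArg (K.loc p U) (hψ e g ω)).trans ((LinearEquiv.apply_symm_apply _ _).trans ?_)
      exact (congrArg (fun x => x ⊗ₜ[Γ(X, U.1)] exteriorPower.ιMulti Γ(X, U.1) p ω)
        (inclTwist_tmul E I U.1 e g)).symm
  | hzero => simp
  | hadd a b ha hb => simp only [map_add, ha, hb]
  | hsmul c a ha => simp only [map_smul, Scheme.Modules.Hom.app_smul, ha]

include hE in
/-- Any chain map given on decomposable forms by `(e ⊗ g) ⊗ ω ↦ (g • e) ⊗ ω` is a quasi-isomorphism. -/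
theorem quasiIso_of_thetaBij (hd : OmegaSh.IsUniversal d) (hD : LogNCD.IsNCD D f) (hθ : ThetaBij K μ)
    (I : X.IdealSheafData) (hI : I = ∏ i, D i ^ μ i)
    {nabla' : Coh.toAb (CohB1.tensorMod E (ClSub.idealMod I)) ⟶
      Coh.toAb (CohB1.tensorMod (CohB1.tensorMod E (ClSub.idealMod I)) Λ.L)}
    (K' : ConnSh.Cx (LogNCD.der Λ) (CohB1.tensorMod E (ClSub.idealMod I)) nabla')
    (φ : K'.K ⟶ K.K) (ψ : ∀ p : ℕ, K'.term p ⟶ K.term p)
    (hφ : ∀ p : ℕ, φ.f p = (K'.iso p).hom ≫ (SheafOfModules.toSheaf X.ringCatSheaf).map (ψ p) ≫ (K.iso p).inv)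
    (hψ : ∀ (p : ℕ) (U : X.affineOpens) (e : Γ(E, U.1)) (g : (ClSub.idealMod I).val.obj (op U.1))
      (ω : Fin p → Γ(Λ.L, U.1)),
      (ψ p).app U.1 ((K'.loc p U).symm
        (SecTwist.tmul E (ClSub.idealMod I) U.1 e g ⊗ₜ exteriorPower.ιMulti _ p ω)) =
      (K.loc p U).symm ((OmegaSh.idealSect I U.1 g • e) ⊗ₜ exteriorPower.ιMulti _ p ω)) :
    QuasiIso φ := by
  subst hI
  have hq := QCoh.isQCoh_of_isFinLocFree hE
  have hf : ∀ (p : ℕ) (U : X.affineOpens) (x : (K'.K.X p).obj.obj (op U.1)),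
      toF K p U ((φ.f p).hom.app (op U.1) x) = mapF incl p U.1 (toF K' p U x) := fun p U x => by
    rw [hφ p]
    show K.loc p U ((K.iso p).hom.hom.app (op U.1) ((K.iso p).inv.hom.app (op U.1) _)) = _
    have h : ∀ y : Γ(K.term p, U.1), ((K.iso p).hom.hom.app (op U.1)) (((K.iso p).inv.hom.app (op U.1)) y) = y :=
      fun y => congr(($((K.iso p).inv_hom_id)).hom.app (op U.1) y)
    refine (congrArg (K.loc p U) (h _)).trans ?_
    refine Eq.trans ?_ (loc_app_eq_mapF K (∏ i, D i ^ μ i) hq K' p (ψ p) U (hψ p U) (toF K' p U x))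
    refine congrArg (fun s => K.loc p U ((ψ p).app U.1 s)) ?_
    exact ((K'.loc p U).symm_apply_apply _).symm
  have key : ∀ (p : ℕ) (U : X.affineOpens) (z : Fm Λ.L (CohB1.tensorMod E (ClSub.idealMod (∏ i, D i ^ μ i))) p U.1),
      toF K p U ((φ.f p).hom.app (op U.1) (ofF K' p U z)) = mapF incl p U.1 z := fun p U z => by
    rw [hf, toF_ofF]
  have hmono : ∀ p, Mono (φ.f p) := fun p => by
    suffices h : ∀ O : X.Opens, Function.Injective ((φ.f p).hom.app (op O)) by
      have : ∀ O, Mono (((sheafToPresheaf _ _).map (φ.f p)).app O) := fun O =>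
        (AddCommGrpCat.mono_iff_injective _).2 (h O.unop)
      have : Mono ((sheafToPresheaf _ _).map (φ.f p)) := NatTrans.mono_of_mono_app _
      exact (sheafToPresheaf _ _).mono_of_mono_map (f := φ.f p) inferInstance
    intro O s t hst
    choose U hxU hUO hgood using fun x : O => exists_good (Λ := Λ) hd hD x.2
    refine TopCat.Sheaf.eq_of_locally_eq' (F := K'.K.X p) (fun x => (U x).1) O
      (fun x => homOfLE (hUO x)) (fun y hy => Opens.mem_iSup.2 ⟨⟨y, hy⟩, hxU ⟨y, hy⟩⟩) _ _ fun x => ?_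
    have h := congrArg (fun z => toF K p (U x) ((K.K.X p).obj.map (homOfLE (hUO x)).op z)) hst
    dsimp only at h
    have hnat : ∀ z, (K.K.X p).obj.map (homOfLE (hUO x)).op ((φ.f p).hom.app (op O) z) =
        (φ.f p).hom.app (op (U x).1) ((K'.K.X p).obj.map (homOfLE (hUO x)).op z) := fun z =>
      (ConcreteCategory.congr_hom ((φ.f p).hom.naturality (homOfLE (hUO x)).op) z).symm
    rw [hnat, hnat, hf, hf] at h
    exact (Function.LeftInverse.injective (ofF_toF K' p (U x))) (mapF_injective hE μ (hgood x) p h)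
  have toF_res : ∀ (p : ℕ) {O : X.Opens} (U : X.affineOpens) (y : (K.K.X p).obj.obj (op O)) (hle : U.1 ≤ O),
      toF K (p + 1) U ((K.K.X (p + 1)).obj.map (homOfLE hle).op ((K.K.d p (p + 1)).hom.app (op O) y)) =
        dF K p U (toF K p U ((K.K.X p).obj.map (homOfLE hle).op y)) := by
    intro p O U y hle
    show _ = toF K (p + 1) U ((K.K.d p (p + 1)).hom.app (op U.1) (ofF K p U (toF K p U _)))
    rw [ofF_toF]
    exact congrArg _ (ConcreteCategory.congr_hom ((K.K.d p (p + 1)).hom.naturality (homOfLE hle).op) y).symm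
  refine LogDRGeo45.quasiIso_of_lifts _ (fun O y hy t ht' => ?_) (fun n O y hy t ht' => ?_)
  · obtain ⟨U, htU, hle, hg⟩ := exists_good (Λ := Λ) hd hD ht'
    obtain ⟨x, hx⟩ := hy
    have hr : dF K 0 U (toF K 0 U ((K.K.X 0).obj.map (homOfLE hle).op y)) ∈ Set.range (mapF incl 1 U.1) := by
      refine ⟨toF K' 1 U ((K'.K.X 1).obj.map (homOfLE hle).op x), ?_⟩
      rw [← toF_res, ← hx, ← hf]
      exact congrArg (toF K 1 U) (ConcreteCategory.congr_hom ((φ.f 1).hom.naturality (homOfLE hle).op) x)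
    obtain ⟨z, hz⟩ := (lifts K hE μ hθ hg).1 _ hr
    refine ⟨U.1, hle, htU, ofF K' 0 U z, Function.LeftInverse.injective (ofF_toF K 0 U) ?_⟩
    exact (key 0 U z).trans hz
  · obtain ⟨U, htU, hle, hg⟩ := exists_good (Λ := Λ) hd hD ht'
    obtain ⟨x, hx⟩ := hy
    have hr : dF K (n + 1) U (toF K (n + 1) U ((K.K.X (n + 1)).obj.map (homOfLE hle).op y)) ∈
        Set.range (mapF incl (n + 2) U.1) := by
      refine ⟨toF K' (n + 2) U ((K'.K.X (n + 2)).obj.map (homOfLE hle).op x), ?_⟩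
      rw [← toF_res, ← hx, ← hf]
      exact congrArg (toF K (n + 2) U)
        (ConcreteCategory.congr_hom ((φ.f (n + 2)).hom.naturality (homOfLE hle).op) x)
    obtain ⟨w, z, hz⟩ := (lifts K hE μ hθ hg).2 n _ hr
    refine ⟨U.1, hle, htU, ofF K' (n + 1) U z, ofF K n U w, Function.LeftInverse.injective (ofF_toF K (n + 1) U) ?_⟩
    rw [map_add]
    refine (congrArg₂ (· + ·) ((key (n + 1) U z).trans hz) (rfl : _ = dF K n U w)).trans ?_
    exact sub_add_cancel _ _

end Groth.Agent.LogQis32
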