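import Groth.Agent.LogQis32.Qis

/-!
# Residues and the bijectivity of shifted residues, over any base
-/

set_option autoImplicit false

universe u

open CategoryTheory CategoryTheory.Limits AlgebraicGeometry Opposite TopologicalSpace TensorProduct
open Groth.Agent.LogDR45

noncomputable section

namespace Groth.Agent.LogQis32

open Groth.Agent.LogDRGeo45 (nabF toOne_nabF dlog secLin mapF_nabF inclTwist_tmul exists_inclTwist_eq)
open Groth.Agent.LogModGeo (qSect)

variable {X S : Scheme.{u}}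

/-- Evaluation of a multiple of the identity. -/
theorem app_nsmul_apply {M : X.Modules} (m : ℕ) (U : X.Opens) (y : Γ(M, U)) :
    (m • 𝟙 M : M ⟶ M).app U y = m • y := by
  induction m with
  | zero => rw [zero_smul, zero_smul]; rfl
  | succ m ih => rw [succ_nsmul, succ_nsmul, Scheme.Modules.Hom.add_app, AddCommGrpCat.hom_add_apply, ih]; rfl

theorem app_sub_nsmul {M : X.Modules} (R : M ⟶ M) (s : ℕ) (U : X.Opens) (y : Γ(M, U)) :
    (R - s • 𝟙 M : M ⟶ M).app U y = R.app U y - s • y := by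
  rw [eq_sub_iff_add_eq, ← app_nsmul_apply s U y, ← AddCommGrpCat.hom_add_apply, ← Scheme.Modules.Hom.add_app,
    sub_add_cancel]

variable {f : X ⟶ S} {Ω' : X.Modules} {d : OmegaSh.Der f Ω'} {r : ℕ} {D : Fin r → X.IdealSheafData}
  {Λ : LogNCD.LogMod d D} {E : X.Modules} {nabla : Coh.toAb E ⟶ Coh.toAb (CohB1.tensorMod E Λ.L)}
  (K : ConnSh.Cx (LogNCD.der Λ) E nabla)
  {i : Fin r} {ρ : E ⟶ CohB1.tensorMod E (ClSub.quotMod (D i))}
  {R : CohB1.tensorMod E (ClSub.quotMod (D i)) ⟶ CohB1.tensorMod E (ClSub.quotMod (D i))}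
  (hρ : LogNCD.IsResidue Λ E nabla i ρ)
  (hR : (SecTwist.unitorR E).inv ≫ KoszTw.tensorMap (𝟙 E) (ClSub.toSubscheme (D i)) ≫ R = ρ)

include hR in
theorem app_eq_qSect (U : X.Opens) (e : Γ(E, U)) : ρ.app U e = R.app U (qSect E (D i) U e) := by
  rw [← hR, ← LogModGeo.restrict_app]
  rfl

variable {U : X.affineOpens} (F : RFrame Λ U) {l : Fin F.n}

include hρ hR in
/-- The residue is the coefficient of the logarithmic form, modulo the equation. -/
theorem qSect_evalR (hl : F.comp i = some l) (e : Γ(E, U.1)) :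
    qSect E (D i) U.1 (evalR (F.bas.coord l) (nabF K U e)) = R.app U.1 (qSect E (D i) U.1 e) := by
  rw [← app_eq_qSect hR]
  have h0 : ρ.app U.1 e = (KoszTw.tensorMap (𝟙 E) (Λ.res i)).app U.1 (ConnSh.secApp nabla U.1 e) :=
    congr(($hρ).hom.app (op U.1) e)
  have h2 : ∀ w : Γ(E, U.1) ⊗[Γ(X, U.1)] Γ(Λ.L, U.1),
      (KoszTw.tensorMap (𝟙 E) (Λ.res i)).app U.1 (K.iso1.hom.app U.1 ((K.loc 1 U).symm (Conn.toOne w))) =
        qSect E (D i) U.1 (evalR (F.bas.coord l) w) := by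
    intro w
    induction w using TensorProduct.induction_on with
    | zero => simp
    | add a b ha hb => simp only [map_add, ha, hb]
    | tmul m v =>
      have ht : Conn.toOne (m ⊗ₜ[Γ(X, U.1)] v) = m ⊗ₜ exteriorPower.ιMulti Γ(X, U.1) 1 ![v] := by
        rw [Conn.toOne_tmul]
        congr 1
      have hv : (Λ.res i).app U.1 v = F.bas.coord l v • LogModGeo.one (D i) U.1 := by
        conv_lhs => rw [← F.bas.sum_repr v, map_sum]
        rw [Finset.sum_eq_single l]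
        · rw [Scheme.Modules.Hom.app_smul, F.res_bas, if_pos hl]
          rfl
        · intro a _ ha
          rw [Scheme.Modules.Hom.app_smul, F.res_bas, if_neg, smul_zero]
          rw [hl]
          exact fun e => ha (Option.some.inj e).symm
        · exact fun h => absurd (Finset.mem_univ l) h
      rw [ht, evalR_tmul]
      refine (congrArg ((KoszTw.tensorMap (𝟙 E) (Λ.res i)).app U.1) (K.loc1 U m v)).trans ?_
      refine (KoszTw.tensorMap_tmul _ _ _ _ _).trans ?_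
      show QCoh.tmLin E (ClSub.quotMod (D i)) U.1 (m ⊗ₜ[Γ(X, U.1)] (Λ.res i).app U.1 v) = _
      rw [hv, ← TensorProduct.smul_tmul]
      rfl
  rw [h0, ← h2, toOne_nabF, LinearEquiv.symm_apply_apply]
  exact congrArg _ (congr(($(K.iso1.inv_hom_id)).app U.1 (ConnSh.secApp nabla U.1 e))).symm.symm

/-- Residues shifted by isomorphisms are bijective modulo the equations. -/
theorem thetaBij_of_isIso (hE : FlatMod.IsFinLocFree E) (μ : Fin r → ℕ)
    {ρ : ∀ j, E ⟶ CohB1.tensorMod E (ClSub.quotMod (D j))}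
    {R : ∀ j, CohB1.tensorMod E (ClSub.quotMod (D j)) ⟶ CohB1.tensorMod E (ClSub.quotMod (D j))}
    (h : ∀ j, μ j ≠ 0 → LogNCD.IsResidue Λ E nabla j (ρ j) ∧
      (SecTwist.unitorR E).inv ≫ KoszTw.tensorMap (𝟙 E) (ClSub.toSubscheme (D j)) ≫ R j = ρ j ∧
      ∀ m < μ j, IsIso (R j + m • 𝟙 (CohB1.tensorMod E (ClSub.quotMod (D j))))) :
    ThetaBij K μ := by
  intro U F i l hl m hm
  obtain ⟨hρ, hR, hiso⟩ := h i (by omega)
  have := hiso m hm
  have hb := bij_of_key (QCoh.isQCoh_of_isFinLocFree hE) (D i) U (F.ideal_some hl) (thetaR K F l m)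
    (R i + m • 𝟙 _) fun e => by
      rw [thetaR, map_add, map_nsmul, qSect_evalR K hρ hR F hl, Scheme.Modules.Hom.add_app,
        AddCommGrpCat.hom_add_apply, app_nsmul_apply]
  exact ⟨fun e => (hb.1 e).imp fun _ he => he, fun e he => hb.2 e he⟩

section Twist

variable {M : X.Modules} {nablaM : Coh.toAb M ⟶ Coh.toAb (CohB1.tensorMod M Λ.L)}
  (hcM : ConnSh.IsConn (LogNCD.der Λ) M nablaM) (KM : ConnSh.Cx (LogNCD.der Λ) M nablaM) (μ : Fin r → ℕ)
  {nabla₁ : Coh.toAb (CohB1.tensorMod M (ClSub.idealMod (∏ i, D i ^ μ i))) ⟶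
    Coh.toAb (CohB1.tensorMod (CohB1.tensorMod M (ClSub.idealMod (∏ i, D i ^ μ i))) Λ.L)}
  (K₁ : ConnSh.Cx (LogNCD.der Λ) (CohB1.tensorMod M (ClSub.idealMod (∏ i, D i ^ μ i))) nabla₁)
  (ht : LogNCD.IsTwist Λ M nablaM (∏ i, D i ^ μ i) nabla₁)

include hcM in
theorem nabF_smul (U : X.affineOpens) (t : Γ(X, U.1)) (e : Γ(M, U.1)) :
    nabF KM U (t • e) = t • nabF KM U e + e ⊗ₜ[Γ(X, U.1)] dlog Λ U.1 t := by
  have hinv : ∀ v : Γ(Λ.L, U.1),
      TensorProduct.map LinearMap.id (exteriorPower.oneEquiv Γ(X, U.1) Γ(Λ.L, U.1)).toLinearMap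
        (KM.loc 1 U (KM.iso1.inv.app U.1 (SecTwist.tmul M Λ.L U.1 e v))) = e ⊗ₜ[Γ(X, U.1)] v := fun v => by
    have h1 : KM.iso1.inv.app U.1 (SecTwist.tmul M Λ.L U.1 e v) =
        (KM.loc 1 U).symm (e ⊗ₜ exteriorPower.ιMulti _ 1 ![v]) :=
      (congrArg (KM.iso1.inv.app U.1) (KM.loc1 U e v)).symm.trans congr(($(KM.iso1.hom_inv_id)).app U.1 _)
    rw [h1, LinearEquiv.apply_symm_apply, TensorProduct.map_tmul, LinearMap.id_apply]
    congr 1
    exact exteriorPower.oneEquiv_ιMulti _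
  show TensorProduct.map LinearMap.id (exteriorPower.oneEquiv Γ(X, U.1) Γ(Λ.L, U.1)).toLinearMap
    (KM.loc 1 U (KM.iso1.inv.app U.1 (ConnSh.secApp nablaM U.1 (t • e)))) = _
  have h2 : KM.iso1.inv.app U.1 (ConnSh.secApp nablaM U.1 (t • e)) =
      t • KM.iso1.inv.app U.1 (ConnSh.secApp nablaM U.1 e) +
        KM.iso1.inv.app U.1 (SecTwist.tmul M Λ.L U.1 e (dlog Λ U.1 t)) :=
    (congrArg (KM.iso1.inv.app U.1) (hcM U.1 t e)).trans ((map_add _ _ _).trans
      (congrArg (· + _) (KM.iso1.inv.app_smul t _)))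
  rw [h2, map_add, map_add, map_smul, map_smul]
  exact congrArg₂ (· + ·) rfl (hinv _)

include hcM ht K₁ in
/-- The shifted residues of the positive twist. -/
theorem thetaBij_of_twist (hM : FlatMod.IsFinLocFree M)
    (ρ : ∀ i, CohB1.tensorMod M (ClSub.idealMod (∏ j, D j ^ μ j)) ⟶
      CohB1.tensorMod (CohB1.tensorMod M (ClSub.idealMod (∏ j, D j ^ μ j))) (ClSub.quotMod (D i)))
    (hρ : ∀ i, LogNCD.IsResidue Λ (CohB1.tensorMod M (ClSub.idealMod (∏ j, D j ^ μ j))) nabla₁ i (ρ i))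
    (R : ∀ i, CohB1.tensorMod (CohB1.tensorMod M (ClSub.idealMod (∏ j, D j ^ μ j))) (ClSub.quotMod (D i)) ⟶
      CohB1.tensorMod (CohB1.tensorMod M (ClSub.idealMod (∏ j, D j ^ μ j))) (ClSub.quotMod (D i)))
    (hR : ∀ i, (SecTwist.unitorR _).inv ≫ KoszTw.tensorMap (𝟙 _) (ClSub.toSubscheme (D i)) ≫ R i = ρ i)
    (hres : ∀ i (m : ℕ), 1 ≤ m → m ≤ μ i → IsIso (R i - m • 𝟙 _)) :
    ThetaBij KM μ := by
  intro U Fr i l hl m hm
  set x := Fr.v l with hx
  set s := μ i - m with hs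
  have := hres i s (by omega) (by omega)
  let ev := evalR (M := Γ(M, U.1)) (Fr.bas.coord l)
  let j := LogNCD.inclTwist M (∏ j, D j ^ μ j)
  let ψ : Γ(CohB1.tensorMod M (ClSub.idealMod (∏ j, D j ^ μ j)), U.1) →
      Γ(CohB1.tensorMod M (ClSub.idealMod (∏ j, D j ^ μ j)), U.1) := fun e' =>
    evalR (Fr.bas.coord l) (nabF K₁ U e') - s • e'
  have hqM := QCoh.isQCoh_of_isFinLocFree hM
  have hq : Coh.IsQCoh (CohB1.tensorMod M (ClSub.idealMod (∏ j, D j ^ μ j))) :=
    KFlatLib.isQCoh_tensor hqM (isQCoh_idealMod _)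
  obtain ⟨hsurj, hinj⟩ := bij_of_key hq (D i) U (Fr.ideal_some hl) ψ (R i - s • 𝟙 _) (fun e' => by
    simp only [ψ]
    rw [map_sub, map_nsmul, app_sub_nsmul, qSect_evalR K₁ (hρ i) (hR i) Fr hl])
  -- the equation of the twist
  set G : Γ(X, U.1) := ∏ a ∈ Fr.poles, Fr.v a ^ Fr.mult μ a with hGdef
  have hG : (∏ j, D j ^ μ j).ideal U = Ideal.span {G} := Fr.ideal_twist μ
  have hl' : l ∈ Fr.poles := (Fr.mem_poles l).2 ⟨i, hl⟩
  have hreg : IsRegular G := Fr.regular_twist μ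
  have hGreg := isSMulRegular_sections hM U.2 hreg
  have hδG : Fr.bas.coord l (dlog Λ U.1 G) = μ i • G := by
    have h1 : dlog Λ U.1 G = G • ∑ a ∈ Fr.poles, Fr.mult μ a • Fr.bas a :=
      (Fr.chart hM KM).δ_mon (Fr.mult μ)
    rw [h1, map_smul, map_sum, Finset.sum_eq_single l, map_nsmul, Module.Basis.coord_apply,
      Module.Basis.repr_self, Finsupp.single_eq_same, Fr.mult_eq μ hl, smul_eq_mul, nsmul_eq_mul, nsmul_eq_mul,
      mul_one, mul_comm]
    · intro a _ ha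
      rw [map_nsmul, Module.Basis.coord_apply, Module.Basis.repr_self, Finsupp.single_eq_of_ne (Ne.symm ha),
        smul_zero]
    · exact fun h => absurd hl' h
  have hkey : ∀ (e : Γ(M, U.1)) (e' : Γ(CohB1.tensorMod M (ClSub.idealMod (∏ j, D j ^ μ j)), U.1)),
      j.app U.1 e' = G • e → j.app U.1 (ψ e') = G • thetaR KM Fr l m e := by
    intro e e' he'
    have hev : ∀ w, j.app U.1 (evalR (Fr.bas.coord l) w) =
        ev (TensorProduct.map (secLin j U.1) LinearMap.id w) := fun w => by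
      induction w using TensorProduct.induction_on with
      | zero => simp only [map_zero]
      | tmul a v => rw [TensorProduct.map_tmul, evalR_tmul]; simp only [ev, evalR_tmul]; exact j.app_smul _ _
      | add a b ha hb => simp only [map_add, ha, hb]
    simp only [ψ]
    rw [map_sub, map_nsmul, hev, mapF_nabF K₁ KM j ht U e', he', nabF_smul hcM KM U G e, map_add, map_smul]
    simp only [ev, evalR_tmul, hδG, thetaR, smul_add]
    rw [smul_assoc, smul_comm G m e, show μ i = m + s by omega, add_smul]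
    abel
  have hlift : ∀ e : Γ(M, U.1), ∃ e', j.app U.1 e' = G • e :=
    exists_inclTwist_eq M (∏ j, D j ^ μ j) U (hG ▸ Ideal.mem_span_singleton_self G)
  have hdown : ∀ e', ∃ e : Γ(M, U.1), j.app U.1 e' = G • e := fun e' => by
    obtain ⟨e, k', hk, he'⟩ := inclTwist_mem M (∏ j, D j ^ μ j) hqM U hG e'
    exact ⟨e, by rw [he', ← hk]; exact inclTwist_tmul M (∏ j, D j ^ μ j) U.1 e k'⟩
  refine ⟨fun e => ?_, fun e he => ?_⟩
  · obtain ⟨e₀, he₀⟩ := hlift e
    obtain ⟨u', w', hw⟩ := hsurj e₀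
    obtain ⟨u, hu⟩ := hdown u'
    obtain ⟨w, hwd⟩ := hdown w'
    refine ⟨u, w, hGreg ?_⟩
    show G • (x • w) = G • (thetaR KM Fr l m u - e)
    rw [smul_comm G x w, ← hwd, smul_sub, ← hkey u u' hu, ← he₀, ← map_sub, ← hw]
    exact (j.app_smul x w').symm
  · obtain ⟨e', he'⟩ := hlift e
    obtain ⟨w, hw⟩ := he
    obtain ⟨w', hw'⟩ := hlift w
    obtain ⟨v', hv⟩ := hinj e' ⟨w', inclTwist_injective M (∏ j, D j ^ μ j) hM U hG hreg <| by
      show j.app U.1 (x • w') = j.app U.1 (ψ e')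
      rw [Scheme.Modules.Hom.app_smul, hw', hkey e e' he', ← hw, LinearMap.lsmul_apply, smul_comm x G w]⟩
    obtain ⟨v, hvd⟩ := hdown v'
    refine ⟨v, hGreg ?_⟩
    show G • (x • v) = G • e
    rw [smul_comm G x v, ← hvd, ← he', ← hv]
    exact (j.app_smul x v').symm

end Twist

end Groth.Agent.LogQis32
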